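import Mathlib

/-!
# Orthogonal decompositions form a triangulated subcategory
-/

set_option autoImplicit false
set_option linter.style.haveILetI false

universe v u

open CategoryTheory CategoryTheory.Limits CategoryTheory.Pretriangulated
open scoped ZeroObject

noncomputable section

namespace Groth.Agent.OrthDecomp

variable {D : Type u} [Category.{v} D] [Preadditive D] [HasZeroObject D] [HasShift D ℤ]
  [∀ n : ℤ, (shiftFunctor D n).Additive] [Pretriangulated D] (P : ObjectProperty D) [P.IsTriangulated]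

/-- Objects with an orthogonal decomposition. -/
def Decomposes : ObjectProperty D := fun X =>
  ∃ (A B : D) (f : A ⟶ X) (g : X ⟶ B) (h : B ⟶ (shiftFunctor D (1 : ℤ)).obj A),
    Triangle.mk f g h ∈ distinguishedTriangles ∧ P A ∧ P.rightOrthogonal B

variable {P}

omit [P.IsTriangulated] in
theorem rightOrthogonal_eq {B Z : D} (hB : P.rightOrthogonal B) (x : Z ⟶ B) (hZ : P Z) : x = 0 :=
  hB x hZ

theorem rightOrthogonal_shift {B : D} (hB : P.rightOrthogonal B) (n : ℤ) :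
    P.rightOrthogonal (B⟦n⟧) :=
  P.rightOrthogonal.le_shift n _ hB

section

variable {A B X : D} {f : A ⟶ X} {g : X ⟶ B} {h : B ⟶ (shiftFunctor D (1 : ℤ)).obj A}
  (hT : Triangle.mk f g h ∈ distinguishedTriangles) (hB : P.rightOrthogonal B) {Z : D} (hZ : P Z)

include hT hB hZ in
theorem exists_lift (x : Z ⟶ X) : ∃ e : Z ⟶ A, x = e ≫ f :=
  Triangle.coyoneda_exact₂ _ hT x (rightOrthogonal_eq hB (x ≫ g) hZ)

include hT hB hZ in
theorem eq_zero_shift (y : Z ⟶ A⟦(1 : ℤ)⟧) (hy : y ≫ f⟦(1 : ℤ)⟧' = 0) : y = 0 := by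
  have key : ∃ z : Z ⟶ B, y = z ≫ h := Triangle.coyoneda_exact₁ _ hT y hy
  obtain ⟨z, rfl⟩ := key
  rw [rightOrthogonal_eq hB z hZ, zero_comp]

include hT hB hZ in
theorem eq_zero_of_comp (e : Z ⟶ A) (he : e ≫ f = 0) : e = 0 := by
  refine (shiftFunctor D (1 : ℤ)).map_injective ?_
  rw [Functor.map_zero]
  exact eq_zero_shift hT hB (P.le_shift 1 _ hZ) _
    ((Functor.map_comp _ _ _).symm.trans ((congrArg _ he).trans (Functor.map_zero _ _ _)))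

include hT hB hZ in
theorem exists_lift_shift (x : Z ⟶ X⟦(1 : ℤ)⟧) : ∃ y : Z ⟶ A⟦(1 : ℤ)⟧, x = y ≫ f⟦(1 : ℤ)⟧' := by
  have h3 := rot_of_distTriang _ (rot_of_distTriang _ (rot_of_distTriang _ hT))
  have key : ∃ y : Z ⟶ A⟦(1 : ℤ)⟧, x = y ≫ (-f⟦(1 : ℤ)⟧') :=
    Triangle.coyoneda_exact₂ _ h3 x (rightOrthogonal_eq (rightOrthogonal_shift hB 1) _ hZ)
  obtain ⟨y, hy⟩ := key
  exact ⟨-y, by rw [hy, Preadditive.neg_comp, Preadditive.comp_neg]⟩

end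

/-- An iso preserves decompositions. -/
theorem Decomposes.of_iso {X Y : D} (e : X ≅ Y) (hX : Decomposes P X) : Decomposes P Y := by
  obtain ⟨A, B, f, g, h, hT, hA, hB⟩ := hX
  refine ⟨A, B, f ≫ e.hom, e.inv ≫ g, h, isomorphic_distinguished _ hT _ ?_, hA, hB⟩
  refine Triangle.isoMk _ _ (Iso.refl _) e.symm (Iso.refl _) ?_ ?_ ?_ <;> simp [Triangle.mk]

theorem decomposes_shift {X : D} (n : ℤ) (hX : Decomposes P X) : Decomposes P (X⟦n⟧) := by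
  obtain ⟨A, B, f, g, h, hT, hA, hB⟩ := hX
  exact ⟨A⟦n⟧, B⟦n⟧, _, _, _, Triangle.shift_distinguished _ hT n, P.le_shift n _ hA,
    rightOrthogonal_shift hB n⟩

/-- Two out of three: cones. -/
theorem decomposes_cone (T : Triangle D) (hT : T ∈ distinguishedTriangles) (h₁ : Decomposes P T.obj₁)
    (h₂ : Decomposes P T.obj₂) : Decomposes P T.obj₃ := by
  obtain ⟨A₁, B₁, f₁, g₁, c₁, hT₁, hA₁, hB₁⟩ := h₁
  obtain ⟨A₂, B₂, f₂, g₂, c₂, hT₂, hA₂, hB₂⟩ := h₂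
  obtain ⟨a, ha⟩ := exists_lift hT₂ hB₂ hA₁ (f₁ ≫ T.mor₁)
  obtain ⟨A₃, n, δ, hA⟩ := distinguished_cocone_triangle a
  obtain ⟨A₃', hA₃', ⟨e⟩⟩ : P.isoClosure A₃ := P.ext_of_isTriangulatedClosed₃' _ hA hA₁ hA₂
  have kf : ∃ f₃ : A₃ ⟶ T.obj₃, n ≫ f₃ = f₂ ≫ T.mor₂ ∧ δ ≫ f₁⟦(1 : ℤ)⟧' = f₃ ≫ T.mor₃ :=
    complete_distinguished_triangle_morphism _ _ hA hT f₁ f₂ ha.symm
  obtain ⟨f₃, hf₁, hf₂⟩ := kf
  have kT : ∃ (B₃ : D) (g₃ : T.obj₃ ⟶ B₃) (c₃ : B₃ ⟶ A₃⟦(1 : ℤ)⟧),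
      Triangle.mk f₃ g₃ c₃ ∈ distinguishedTriangles := distinguished_cocone_triangle f₃
  obtain ⟨B₃, g₃, c₃, hT₃⟩ := kT
  have hinj : ∀ {Z : D} (_ : P Z) (x : Z ⟶ A₃), x ≫ f₃ = 0 → x = 0 := by
    intro Z hZ x hx
    have hδ : x ≫ δ = 0 := eq_zero_shift hT₁ hB₁ hZ _ (by
      rw [Category.assoc, hf₂, ← Category.assoc, hx, zero_comp])
    have key : ∃ x' : Z ⟶ A₂, x = x' ≫ n := Triangle.coyoneda_exact₃ _ hA x hδ
    obtain ⟨x', rfl⟩ := key
    have key2 : ∃ w : Z ⟶ T.obj₁, x' ≫ f₂ = w ≫ T.mor₁ := Triangle.coyoneda_exact₂ _ hT _ (by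
      rw [Category.assoc, ← hf₁, ← Category.assoc, hx])
    obtain ⟨w, hw⟩ := key2
    obtain ⟨w', rfl⟩ := exists_lift hT₁ hB₁ hZ w
    have h0 : x' - w' ≫ a = 0 := eq_zero_of_comp hT₂ hB₂ hZ _ (by
      rw [Preadditive.sub_comp, Category.assoc, ← ha, hw, Category.assoc, sub_self])
    have han : a ≫ n = 0 := comp_distTriang_mor_zero₁₂ _ hA
    rw [sub_eq_zero.1 h0, Category.assoc, han, comp_zero]
  have hsurj : ∀ {Z : D} (_ : P Z) (x : Z ⟶ T.obj₃), ∃ y : Z ⟶ A₃, x = y ≫ f₃ := by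
    intro Z hZ x
    obtain ⟨y, hy⟩ := exists_lift_shift hT₁ hB₁ hZ (x ≫ T.mor₃)
    have hy' : y ≫ a⟦(1 : ℤ)⟧' = 0 := eq_zero_shift hT₂ hB₂ hZ _ (by
      rw [Category.assoc, ← Functor.map_comp, ← ha, Functor.map_comp, ← Category.assoc, ← hy,
        Category.assoc, comp_distTriang_mor_zero₃₁ _ hT, comp_zero])
    have key : ∃ z : Z ⟶ A₃, y = z ≫ δ := Triangle.coyoneda_exact₁ _ hA y hy'
    obtain ⟨z, rfl⟩ := key
    have key2 : ∃ w : Z ⟶ T.obj₂, x - z ≫ f₃ = w ≫ T.mor₂ := Triangle.coyoneda_exact₃ _ hT _ (by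
      rw [Preadditive.sub_comp, hy, Category.assoc, Category.assoc, hf₂, sub_self])
    obtain ⟨w, hw⟩ := key2
    obtain ⟨w', rfl⟩ := exists_lift hT₂ hB₂ hZ w
    refine ⟨z + w' ≫ n, ?_⟩
    rw [Preadditive.add_comp, Category.assoc, hf₁, ← Category.assoc w', ← hw]
    abel
  have hB₃ : P.rightOrthogonal B₃ := by
    intro Z x hZ
    have h0 : x ≫ c₃ = 0 := by
      obtain ⟨x₀, hx₀⟩ : ∃ x₀ : Z⟦(-1 : ℤ)⟧ ⟶ A₃,
          x₀⟦(1 : ℤ)⟧' = (shiftEquiv D (1 : ℤ)).counitIso.hom.app Z ≫ x ≫ c₃ :=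
        (shiftFunctor D (1 : ℤ)).map_surjective _
      have hz : x₀ ≫ f₃ = 0 := by
        refine (shiftFunctor D (1 : ℤ)).map_injective ?_
        rw [Functor.map_comp, hx₀, Functor.map_zero]
        have h31 : c₃ ≫ f₃⟦(1 : ℤ)⟧' = 0 := comp_distTriang_mor_zero₃₁ _ hT₃
        exact (Category.assoc _ _ _).trans ((congrArg (_ ≫ ·) ((Category.assoc _ _ _).trans
          ((congrArg (x ≫ ·) h31).trans comp_zero))).trans comp_zero)
      have hx0 := hinj (P.le_shift (-1) _ hZ) x₀ hz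
      rw [hx0, Functor.map_zero] at hx₀
      exact (cancel_epi ((shiftEquiv D (1 : ℤ)).counitIso.hom.app Z)).1 (hx₀.symm.trans comp_zero.symm)
    have key : ∃ w : Z ⟶ T.obj₃, x = w ≫ g₃ := Triangle.coyoneda_exact₃ _ hT₃ x h0
    obtain ⟨w, rfl⟩ := key
    obtain ⟨y, rfl⟩ := hsurj hZ w
    have h12 : f₃ ≫ g₃ = 0 := comp_distTriang_mor_zero₁₂ _ hT₃
    rw [Category.assoc, h12, comp_zero]
  refine ⟨A₃', B₃, e.inv ≫ f₃, g₃, c₃ ≫ e.hom⟦(1 : ℤ)⟧', isomorphic_distinguished _ hT₃ _ ?_, hA₃', hB₃⟩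
  refine Triangle.isoMk _ _ e.symm (Iso.refl _) (Iso.refl _) ?_ ?_ ?_
  · exact Category.comp_id _
  · exact (Category.comp_id _).trans (Category.id_comp _).symm
  · exact (Category.assoc _ _ _).trans ((congrArg (c₃ ≫ ·) ((Functor.map_comp _ _ _).symm.trans
      ((congrArg _ e.hom_inv_id).trans (CategoryTheory.Functor.map_id _ _)))).trans
        ((Category.comp_id _).trans (Category.id_comp _).symm))

theorem isTriangulated_decomposes : ObjectProperty.IsTriangulated (Decomposes P) := by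
  haveI : (Decomposes P).IsClosedUnderIsomorphisms := ⟨fun e h => h.of_iso e⟩
  haveI : (Decomposes P).IsStableUnderShift ℤ :=
    { isStableUnderShiftBy := fun n => ⟨fun X hX => decomposes_shift n hX⟩ }
  haveI : (Decomposes P).ContainsZero := by
    obtain ⟨Z, hZ, hPZ⟩ := P.exists_prop_of_containsZero
    refine ⟨⟨Z, hZ, Z, 0, 𝟙 Z, 0, 0, contractible_distinguished Z, hPZ, ?_⟩⟩
    exact fun _ x _ => (Limits.isZero_zero D).eq_of_tgt x 0
  haveI : (Decomposes P).IsTriangulatedClosed₂ := ObjectProperty.IsTriangulatedClosed₂.mk'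
    fun T hT h₁ h₃ => decomposes_cone _ (inv_rot_of_distTriang _ hT) (decomposes_shift (-1) h₃) h₁
  exact { }

end Groth.Agent.OrthDecomp
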